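import Mathlib
import Cfsg.Agent.Fus.EssBasic
import Cfsg.Agent.Fus.SEFF

set_option autoImplicit false
set_option linter.unusedVariables false

namespace Cfsg.Agent.C3

open Cfsg Cfsg.FusionSystem Cfsg.Agent.Fus Subgroup

theorem off_rep {p : ℕ} [Fact p.Prime] {P Q : Type*} [Group P] [CommGroup Q]
    [Module (ZMod p) (Additive Q)] (σ : P →* Monoid.End Q) :
    ∃ ρ : Representation (ZMod p) P (Additive Q), ∀ g x, ρ g x = Additive.ofMul (σ g x.toMul) := by
  let ρ0 : P →* Module.End (ZMod p) (Additive Q) :=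
    { toFun := fun g => (MonoidHom.toAdditive (σ g : Q →* Q)).toZModLinearMap p
      map_one' := LinearMap.ext fun x => by rw [σ.map_one]; rfl
      map_mul' := fun a b => LinearMap.ext fun x => by rw [σ.map_mul]; rfl }
  exact ⟨ρ0, fun _ _ => rfl⟩

/-- The module version. -/
theorem off_core {p : ℕ} [Fact p.Prime] {P Q : Type*} [Group P] [Finite P] [iQ : Group Q] [Finite Q]
    (hc : ∀ a b : Q, a * b = b * a) (he : ∀ a : Q, a ^ p = 1) (σ : P →* Monoid.End Q) (hσ : ∀ g, (∀ x, σ g x = x) → g = 1)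
    {X A : Subgroup P} (hX : Inv.SE.StrEmb p X) (hA : IsElementaryAbelian p A) (hne : A ≠ ⊥)
    (Z : Subgroup Q) (hZ : ∀ a ∈ A, ∀ z ∈ Z, σ a z = z) (hi : Z.index ≤ Nat.card A) :
    Loc.Am.IsSylowOf p A ⊤ := by
  let _ : CommGroup Q := { iQ with mul_comm := hc }
  obtain ⟨_⟩ : Nonempty (Module (ZMod p) (Additive Q)) :=
    ⟨AddCommGroup.zmodModule fun x => he x.toMul⟩
  obtain ⟨ρ, hρ⟩ := off_rep (p := p) σ
  have hinj : Function.Injective ρ := (injective_iff_map_eq_one _).2 fun g hg =>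
    hσ g fun x => (hρ g (Additive.ofMul x)).symm.trans (LinearMap.congr_fun hg (Additive.ofMul x))
  refine (SEFF.main hinj hX hA hne ?_).1
  have h1 : Nat.card Z ≤ Nat.card (Loc.BH.fx ρ A) :=
    Nat.card_le_card_of_injective
      (fun z => ⟨Additive.ofMul z.1, fun a ha => (hρ a _).trans (hZ a ha z.1 z.2)⟩)
      fun z z' e => by
        have := congrArg Subtype.val e
        exact Subtype.ext this
  have h2 : Nat.card (Additive Q) = Z.index * Nat.card Z := Z.index_mul_card.symm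
  rw [h2]
  exact Nat.mul_le_mul hi h1

/-- An offender on `E / Φ(E)` is a Sylow subgroup of `Out_F(E)`. -/
theorem ess_off {Ω : Type*} [Group Ω] {S : Subgroup Ω} [Finite S] {p : ℕ} [Fact p.Prime]
    {F : FusionSystem S} (hF : F.IsSaturated p) (hS : IsPGroup p S) {E A Y : Subgroup Ω}
    (hE : F.IsEssential p E) (hA : A ≤ normalizerIn S E) (ha : IsElementaryAbelian p A)
    (hne : ¬ A ≤ E) (hY : Y ≤ E) (hc : ∀ a ∈ A, ∀ y ∈ Y, a * y = y * a)
    (hi : Y.relIndex E ≤ E.relIndex A) :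
    ∀ s ∈ normalizerIn S E, ∃ a ∈ A, ∃ x ∈ E, s = a * x := by
  have := finite_of_le hE.le
  obtain ⟨hcen, -, hnorm, X, hX⟩ := id hE
  have hrad := hE.isRadical hS
  set Φ := ⁅E, E⁆ ⊔ powerClosure p 1 E with hΦ
  have hI : ∀ B : Subgroup (MulAut E), InvA B Φ := fun B =>
    ((invA_top _).commutator (invA_top _)).sup ((invA_top _).powerClosure p 1)
  have hmap : ∀ (α : MulAut E) (x : E), (x : Ω) ∈ Φ → (α x : Ω) ∈ Φ := fun α x hx => by
    have := (hI ⊤).2 α (mem_top _) x hx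
    rwa [totA_apply α x.2] at this
  have hn : (Φ.subgroupOf E).Normal := ⟨fun x hx g => hmap (MulAut.conj g) x hx⟩
  have hcomm : ∀ a b : E ⧸ Φ.subgroupOf E, a * b = b * a := by
    intro a b
    obtain ⟨a, rfl⟩ := QuotientGroup.mk_surjective a
    obtain ⟨b, rfl⟩ := QuotientGroup.mk_surjective b
    rw [← QuotientGroup.mk_mul, ← QuotientGroup.mk_mul, QuotientGroup.eq, mem_subgroupOf]
    refine mem_sup_left ?_
    have := commutator_mem_commutator (inv_mem b.2) (inv_mem a.2)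
    simpa [commutatorElement_def, mul_assoc] using this
  have hexp : ∀ a : E ⧸ Φ.subgroupOf E, a ^ p = 1 := by
    intro a
    obtain ⟨a, rfl⟩ := QuotientGroup.mk_surjective a
    rw [← QuotientGroup.mk_pow, QuotientGroup.eq_one_iff, mem_subgroupOf]
    exact mem_sup_right (subset_closure ⟨a, a.2, by rw [pow_one]; rfl⟩)
  let σ0 : F.autGroup E →* Monoid.End (E ⧸ Φ.subgroupOf E) :=
    { toFun := fun α => QuotientGroup.map _ _ (α : MulAut E).toMonoidHom fun x hx => hmap α x hx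
      map_one' := QuotientGroup.monoidHom_ext _ (MonoidHom.ext fun _ => rfl)
      map_mul' := fun a b => QuotientGroup.monoidHom_ext _ (MonoidHom.ext fun _ => rfl) }
  have hσ0 : ∀ (α : F.autGroup E) (x : E),
      σ0 α (QuotientGroup.mk x) = QuotientGroup.mk ((α : MulAut E) x) := fun _ _ => rfl
  have hker : (Inn E).subgroupOf (F.autGroup E) ≤ σ0.ker := by
    intro α hα
    obtain ⟨g, hg, e⟩ := mem_inn_iff.1 (mem_subgroupOf.1 hα)
    refine QuotientGroup.monoidHom_ext _ (MonoidHom.ext fun x => ?_)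
    have e1 : (α : MulAut E) x = ⟨g, hg⟩ * x * ⟨g, hg⟩⁻¹ := Subtype.ext (e x)
    change σ0 α (QuotientGroup.mk x) = QuotientGroup.mk x
    rw [hσ0, e1, QuotientGroup.mk_mul, QuotientGroup.mk_mul, QuotientGroup.mk_inv, hcomm _ (x : _ ⧸ _),
      mul_inv_cancel_right]
  let σ := QuotientGroup.lift _ σ0 hker
  have hσ : ∀ g, (∀ x, σ g x = x) → g = 1 := by
    intro g hg
    obtain ⟨α, rfl⟩ := QuotientGroup.mk_surjective g
    rw [QuotientGroup.eq_one_iff, mem_subgroupOf]
    let C : ℕ → Subgroup Ω := fun i => [E, Φ].getD i ⊥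
    have hK : IsPGroup p (chainStab E C 1) := isPGroup_chainStab (hS.to_le hE.le) rfl le_rfl
    have hIC : ∀ l : MulAut E, ∀ i ≤ 1, l ∈ stabA E (C i) := fun l i hi => by
      interval_cases i
      exacts [(invA_top ⊤).le_stabA (mem_top l), (hI ⊤).le_stabA (mem_top l)]
    refine hrad.le_inn (A := chainStab E C 1 ⊓ F.autGroup E) inf_le_right
      (fun l hl => mem_normalizer_iff.2 fun β => ⟨fun hβ => ⟨conj_mem_chainStab hβ.1 (hIC l),
        mul_mem (mul_mem hl hβ.2) (Subgroup.inv_mem _ hl)⟩, fun hβ => ⟨?_, ?_⟩⟩) (hK.to_le inf_le_left) ⟨?_, α.2⟩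
    · simpa [mul_assoc] using conj_mem_chainStab hβ.1 (hIC l⁻¹)
    · simpa [mul_assoc] using mul_mem (mul_mem (Subgroup.inv_mem _ hl) hβ.2) hl
    · refine mem_chainStab_of le_rfl ?_ ?_
      · intro i hi
        interval_cases i
        exact (hI ⊤).1
      · intro i hi x hx
        interval_cases i
        have h1 : (QuotientGroup.mk ((α : MulAut E) ⟨x, hx⟩) : E ⧸ Φ.subgroupOf E) =
            QuotientGroup.mk ⟨x, hx⟩ := hg (QuotientGroup.mk ⟨x, hx⟩)
        have h2 := QuotientGroup.eq.1 h1.symm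
        rw [totA_apply _ (show x ∈ E from hx)]
        exact h2
  let c : normalizerIn S E →* F.autGroup E :=
    MonoidHom.mk' (fun s => ⟨cAut E s, F.cAut_mem_autGroup hE.le s.2⟩)
      fun a b => Subtype.ext (cAut_mul a.2.2 b.2.2)
  let f := (QuotientGroup.mk' ((Inn E).subgroupOf (F.autGroup E))).comp c
  have hf : f.ker = E.subgroupOf (normalizerIn S E) := by
    ext s
    rw [MonoidHom.mem_ker, mem_subgroupOf, ← hcen.cAut_mem_inn_iff s.2]
    exact QuotientGroup.eq_one_iff _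
  have hsyl := off_core hcomm hexp σ hσ (Inv.SE.isStronglyPEmbedded_iff.1 hX)
    (A := (A.subgroupOf (normalizerIn S E)).map f) ⟨⟨⟨?_⟩⟩, ?_⟩ ?_
    ((Y.subgroupOf E).map (QuotientGroup.mk' (Φ.subgroupOf E))) ?_ ?_
  · have hp : IsPGroup p f.range := by
      rw [MonoidHom.range_eq_map]
      exact ((hS.to_le normalizerIn_le).of_equiv topEquiv.symm).map f
    have e := hsyl.max f.range hp (map_le_range _ _) le_top
    intro s hs
    obtain ⟨a, ha', e'⟩ : f ⟨s, hs⟩ ∈ (A.subgroupOf (normalizerIn S E)).map f := e ▸ ⟨_, rfl⟩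
    have h1 : a⁻¹ * ⟨s, hs⟩ ∈ f.ker := by
      rw [MonoidHom.mem_ker, map_mul, map_inv, e', inv_mul_cancel]
    rw [hf] at h1
    exact ⟨a, ha', _, h1, by simp⟩
  · rintro ⟨_, a, h1, rfl⟩ ⟨_, b, h2, rfl⟩
    refine Subtype.ext ?_
    change f a * f b = f b * f a
    rw [← map_mul, ← map_mul]
    have := congrArg Subtype.val (ha.1.1.1 ⟨a, h1⟩ ⟨b, h2⟩)
    exact congrArg f (Subtype.ext this)
  · rintro _ ⟨a, h1, rfl⟩
    rw [← map_pow, show a ^ p = 1 from Subtype.ext (ha.2 a h1), map_one]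
  · intro e
    refine hne fun a h1 => ?_
    have h2 : f ⟨a, hA h1⟩ ∈ (A.subgroupOf (normalizerIn S E)).map f := ⟨_, h1, rfl⟩
    rw [e, mem_bot, ← MonoidHom.mem_ker, hf] at h2
    exact h2
  · rintro _ ⟨a, h1, rfl⟩ _ ⟨y, h2, rfl⟩
    refine congrArg QuotientGroup.mk (Subtype.ext ?_)
    change (cAut E a y : Ω) = y
    rw [coe_cAut a.2.2, hc a h1 y h2, mul_inv_cancel_right]
  · rw [← relIndex_ker, hf, relIndex_subgroupOf hA]
    exact (Nat.le_of_dvd (Nat.pos_of_ne_zero index_ne_zero_of_finite)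
      (index_map_dvd _ (QuotientGroup.mk'_surjective _))).trans hi

end Cfsg.Agent.C3
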